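import Cfsg.Agent.H556.FHallGen
import Cfsg.Agent.OddOrderLocal.HallPi
import Cfsg.Agent.Lib.HallHigman

/-!
# TEAM RV, box R3: `FHall` from a central extension (helper964)

`fhall_of_lift` : if `f : G → S` is surjective with central kernel, `S` has Hall `π`-subgroups and every Hall
`π`-subgroup of `G` has an abelian normal 2-complement, then `FHall π S`.
-/

set_option autoImplicit false

namespace Cfsg.Agent.H964.RV3

open Subgroup Cfsg Cfsg.Agent.H571.RV Cfsg.Agent.H553.ExtRed Cfsg.Agent.H988.CPi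

/-- A Hall `π`-subgroup of `S` is the image of a Hall `π`-subgroup of a central extension. -/
theorem exists_hall {G S : Type*} [Group G] [Finite G] [Group S] {π : Set ℕ} (hE : IsEPiGroup π S) (f : G →* S)
    (hf : Function.Surjective f) (hker : f.ker ≤ Subgroup.center G) : ∃ H : Subgroup G, IsPiHall π H := by
  obtain ⟨H0, hH0⟩ := hE
  have hfin : Finite S := Finite.of_surjective f hf
  have hs : Group.IsSolvable f.ker := by
    let _ : CommGroup f.ker := { (inferInstance : Group f.ker) with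
      mul_comm := fun a b => Subtype.ext ((mem_center_iff.1 (hker b.2)) a) }
    infer_instance
  obtain ⟨Z1, hZ1, hp1, hp2⟩ := Cfsg.Agent.OddOrderLocal.HallPi.exists_isPiHallOf hs πᶜ
  obtain ⟨X, hX⟩ : ∃ X, X = H0.comap f := ⟨_, rfl⟩
  have hZX : f.ker ≤ X := by
    intro z hz
    rw [hX, mem_comap, MonoidHom.mem_ker.1 hz]
    exact H0.one_mem
  have hZ1X := hZ1.trans hZX
  have hn : (Z1.subgroupOf X).Normal := by
    refine ⟨fun x hx g => ?_⟩
    rw [mem_subgroupOf] at hx ⊢
    have h1 := mem_center_iff.1 (hker (hZ1 hx)) (g : G)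
    have h2 : ((g * x * g⁻¹ : X) : G) = x := by
      push_cast
      rw [h1, mul_inv_cancel_right]
    rw [h2]
    exact hx
  have hC : IsCPiGroup π X := by
    refine cpi_of_compl (Z1.subgroupOf X) ?_ ?_
    · intro p hp hpπ hd
      have h1 : Nat.card (Z1.subgroupOf X) = Nat.card Z1 := Nat.card_congr (subgroupOfEquivOfLe hZ1X).toEquiv
      rw [h1] at hd
      exact hp1 p hp hd hpπ
    · intro p hp hd
      by_contra hpπ
      have h1 : Z1.relIndex f.ker * f.ker.relIndex X = Z1.relIndex X := relIndex_mul_relIndex _ _ _ hZ1 hZX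
      have h2 : p ∣ Z1.relIndex X := hd
      rw [← h1] at h2
      rcases hp.dvd_mul.1 h2 with h3 | h3
      · exact hp2 p hp hpπ h3
      · have h4 : f.ker.relIndex X = Nat.card H0 := by
          rw [relIndex_ker, hX, map_comap_eq_self_of_surjective hf]
        rw [h4] at h3
        exact hpπ (hH0.1 p hp h3)
  obtain ⟨H1, hH1⟩ := hC.1
  refine ⟨H1.map X.subtype, ?_, ?_⟩
  · intro p hp hd
    rw [card_map_of_injective X.subtype_injective] at hd
    exact hH1.1 p hp hd
  · intro p hp hpπ hd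
    rw [index_map_subtype] at hd
    rcases hp.dvd_mul.1 hd with h | h
    · exact hH1.2 p hp hpπ h
    · rw [hX, index_comap_of_surjective _ hf] at h
      exact hH0.2 p hp hpπ h

/-- lifting elements of odd order -/
theorem exists_odd_lift {G S : Type*} [Group G] [Finite G] [Group S] (f : G →* S) {H : Subgroup G} {x : S}
    (hx : x ∈ H.map f) (ho : Odd (orderOf x)) : ∃ z ∈ H, f z = x ∧ Odd (orderOf z) := by
  obtain ⟨z, hz, rfl⟩ := hx
  obtain ⟨k, m, hm, hkm⟩ := Nat.exists_eq_two_pow_mul_odd (orderOf_pos z).ne'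
  have hc : Nat.Coprime (2 ^ k) (orderOf (f z)) := (Nat.coprime_two_left.2 ho).pow_left k
  obtain ⟨u, hu⟩ := exists_pow_eq_self_of_coprime hc
  refine ⟨(z ^ 2 ^ k) ^ u, H.pow_mem (H.pow_mem hz _) _, by rw [map_pow, map_pow]; exact hu, ?_⟩
  refine odd_orderOf_of_pow hm ?_
  rw [← pow_mul, mul_comm u m, pow_mul, ← pow_mul z, ← hkm, pow_orderOf_eq_one, one_pow]

/-- **`FHall` from a central extension.** -/
theorem fhall_of_lift {G S : Type*} [Group G] [Finite G] [Group S] [Finite S] {π : Set ℕ}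
    (hE : IsEPiGroup π S) (f : G →* S) (hf : Function.Surjective f) (hker : f.ker ≤ Subgroup.center G)
    (hmain : ∀ H : Subgroup G, IsPiHall π H → OddClosed H ∧
      ∀ s ∈ H, ∀ t ∈ H, Odd (orderOf s) → Odd (orderOf t) → s * t = t * s) : FHall π S := by
  obtain ⟨H, hH⟩ := exists_hall hE f hf hker
  obtain ⟨hcl, hab⟩ := hmain H hH
  have hM : IsPiHall π (H.map f) := by
    refine ⟨fun p hp hd => hH.1 p hp (hd.trans (card_map_dvd H f)), fun p hp hpπ hd => ?_⟩
    exact hH.2 p hp hpπ (hd.trans (index_map_dvd _ hf))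
  refine H556.FH.fhall_of_oddClosed hM ?_ ?_
  · intro x y hx hy
    rw [← Subgroup.orderOf_coe] at hx hy ⊢
    obtain ⟨x', hx'H, hx', hx'o⟩ := exists_odd_lift f x.2 hx
    obtain ⟨y', hy'H, hy', hy'o⟩ := exists_odd_lift f y.2 hy
    rw [Subgroup.coe_mul, ← hx', ← hy', ← map_mul]
    refine Odd.of_dvd_nat ?_ (orderOf_map_dvd f _)
    have h1 := hcl ⟨x', hx'H⟩ ⟨y', hy'H⟩ (by rwa [Subgroup.orderOf_mk]) (by rwa [Subgroup.orderOf_mk])
    rw [← Subgroup.orderOf_coe] at h1
    exact h1
  · intro x hx y hy hxo hyo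
    obtain ⟨x', hx'H, rfl, hx'o⟩ := exists_odd_lift f hx hxo
    obtain ⟨y', hy'H, rfl, hy'o⟩ := exists_odd_lift f hy hyo
    rw [← map_mul, ← map_mul, hab x' hx'H y' hy'H hx'o hy'o]

end Cfsg.Agent.H964.RV3
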